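import Mathlib
import Groth.Prelude.Def_W4c5pointsetsdelpezzoInv

set_option autoImplicit false
set_option linter.unusedSectionVars false
set_option linter.unusedVariables false
set_option linter.unusedSimpArgs false
set_option linter.style.haveILetI false
set_option maxHeartbeats 400000

universe u

namespace Groth.Agent.Lib.Helper6.InvRing

/-- The subalgebra of elements fixed by a family of algebra endomorphisms of an integrally closed
domain is integrally closed. -/
theorem isIntegrallyClosed_fixed {k P : Type u} [Field k] [CommRing P] [IsDomain P] [Algebra k P]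
    [IsIntegrallyClosed P] (R : Subalgebra k P) (Φ : Set (P →ₐ[k] P))
    (hR : ∀ x, x ∈ R ↔ ∀ φ ∈ Φ, φ x = x) : IsIntegrallyClosed R := by
  let K := FractionRing R
  let L := FractionRing P
  let ι : R →+* L := (algebraMap P L).comp R.val.toRingHom
  have hι : Function.Injective ι := by
    intro a b hab
    have := IsFractionRing.injective P L hab
    exact Subtype.ext this
  let j : K →+* L := IsFractionRing.lift hι
  have hj : ∀ a : R, j (algebraMap R K a) = ι a := fun a => IsFractionRing.lift_algebraMap hι a
  refine (isIntegrallyClosed_iff K).mpr ?_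
  intro x hx
  -- `j x` is integral over `P`
  have hint : IsIntegral P (j x) := by
    obtain ⟨p, hp, hpx⟩ := hx
    refine ⟨p.map R.val.toRingHom, hp.map _, ?_⟩
    rw [Polynomial.eval₂_map]
    have h1 := congrArg j hpx
    rw [Polynomial.hom_eval₂, map_zero] at h1
    have h2 : j.comp (algebraMap R K) = (algebraMap P L).comp R.val.toRingHom := by
      apply RingHom.ext
      intro a
      exact hj a
    rw [h2] at h1
    exact h1
  obtain ⟨y, hy⟩ := IsIntegrallyClosed.algebraMap_eq_of_integral hint
  obtain ⟨a, b, hb, hab⟩ := IsFractionRing.div_surjective (A := R) x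
  have hb0 : b ≠ 0 := nonZeroDivisors.ne_zero hb
  have hbK : algebraMap R K b ≠ 0 := by
    intro h0
    exact hb0 (IsFractionRing.injective R K (by rw [h0, map_zero]))
  have hb0' : (b : P) ≠ 0 := fun h0 => hb0 (Subtype.ext h0)
  -- `y * b = a` in `P`
  have hyb : y * (b : P) = (a : P) := by
    apply IsFractionRing.injective P L
    rw [map_mul, hy, ← hab, map_div₀, hj, hj]
    have hιb : ι b ≠ 0 := by
      intro h0
      exact hb0 (hι (by rw [h0, map_zero]))
    show ι a / ι b * ι b = ι a
    exact div_mul_cancel₀ _ hιb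
  have hyR : y ∈ R := by
    rw [hR]
    intro φ hφ
    have ha := (hR a).mp a.2 φ hφ
    have hb' := (hR b).mp b.2 φ hφ
    have : φ y * (b : P) = y * (b : P) := by
      calc φ y * (b : P) = φ y * φ (b : P) := by rw [hb']
        _ = φ (y * (b : P)) := (map_mul φ _ _).symm
        _ = φ (a : P) := by rw [hyb]
        _ = (a : P) := ha
        _ = y * (b : P) := hyb.symm
    exact mul_right_cancel₀ hb0' this
  refine ⟨⟨y, hyR⟩, ?_⟩
  rw [← hab, eq_div_iff hbK, ← map_mul]
  congr 1
  exact Subtype.ext hyb

open W4c5pointsetsdelpezzo in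
theorem invRing_isIntegrallyClosed (k : Type u) [Field k] (n m : ℕ) :
    IsIntegrallyClosed (invRing k n m) := by
  refine isIntegrallyClosed_fixed (invRing k n m)
    (Set.range (slSubst k n m) ∪
      Set.range (fun s : {s : Fin m → kˣ // ∏ i, s i = 1} => colScale k n m s.1)) ?_
  intro x
  simp only [invRing, Algebra.mem_inf, Algebra.mem_iInf, AlgHom.mem_equalizer, AlgHom.id_apply,
    Set.mem_union, Set.mem_range]
  constructor
  · rintro ⟨h1, h2⟩ φ (⟨g, rfl⟩ | ⟨s, rfl⟩)
    · exact h1 g
    · exact h2 s
  · intro h
    exact ⟨fun g => h _ (Or.inl ⟨g, rfl⟩), fun s => h _ (Or.inr ⟨s, rfl⟩)⟩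

end Groth.Agent.Lib.Helper6.InvRing
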